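import Groth.Agent.DSites.CE.Mid
import Groth.Prelude.Def_CE
import Mathlib.CategoryTheory.Abelian.Injective.Resolution
import Mathlib.CategoryTheory.Abelian.Injective.Extend
import Mathlib.Algebra.Homology.Embedding.ExtendHomology
import Mathlib.Algebra.Homology.HomologicalBicomplex
import Mathlib.Algebra.Homology.HomologicalComplexAbelian

/-!
# Cartan–Eilenberg resolutions of bounded below complexes
-/

set_option autoImplicit false
set_option maxHeartbeats 1000000

universe v u

open CategoryTheory CategoryTheory.Limits CategoryTheory.Category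

noncomputable section

namespace Groth.Agent.DSites.CE

variable {A : Type u} [Category.{v} A] [Abelian A]

/-- The augmentation of a resolution in degree zero. -/
def augZ {M : A} (R : InjectiveResolution M) : M ⟶ R.cochainComplex.X 0 :=
  R.ι.f 0 ≫ (R.cochainComplexXIso 0 0 (by simp)).inv

/-- Extension of a map of resolutions. -/
abbrev ext {K L : CochainComplex A ℕ} (φ : K ⟶ L) :
    K.extend ComplexShape.embeddingUpNat ⟶ L.extend ComplexShape.embeddingUpNat :=
  HomologicalComplex.extendMap φ _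

lemma augZ_ext {M M' : A} (R : InjectiveResolution M) (R' : InjectiveResolution M') (h : M ⟶ M')
    (φ : R.cocomplex ⟶ R'.cocomplex) (hφ : R.ι ≫ φ = (CochainComplex.single₀ A).map h ≫ R'.ι) :
    augZ R ≫ (ext φ).f 0 = h ≫ augZ R' := by
  have e := HomologicalComplex.congr_hom hφ 0
  rw [HomologicalComplex.comp_f, HomologicalComplex.comp_f,
    CochainComplex.single₀_map_f_zero] at e
  have e' : (ext φ).f 0 = (R.cochainComplexXIso 0 0 (by simp)).hom ≫ φ.f 0 ≫
      (R'.cochainComplexXIso 0 0 (by simp)).inv :=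
    HomologicalComplex.extendMap_f φ ComplexShape.embeddingUpNat (i := 0) (i' := 0) rfl
  rw [e']
  let a : M ⟶ R.cocomplex.X 0 := R.ι.f 0
  let a' : M' ⟶ R'.cocomplex.X 0 := R'.ι.f 0
  have e₁ : a ≫ φ.f 0 = h ≫ a' := e
  exact (assoc a _ _).trans ((congrArg (a ≫ ·) (Iso.inv_hom_id_assoc _ _)).trans
    ((assoc _ _ _).symm.trans ((congrArg (· ≫ _) e₁).trans (assoc _ _ _))))

lemma isInjResolutionVia_cochainComplex {M : A} (R : InjectiveResolution M) :
    _root_.CE.IsInjResolutionVia R.cochainComplex M (augZ R) := by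
  have hd : R.cochainComplex.d 0 1 = (R.cochainComplexXIso 0 0 (by simp)).hom ≫
      R.cocomplex.d 0 1 ≫ (R.cochainComplexXIso 1 1 (by simp)).inv :=
    R.cochainComplex_d 0 1 0 1 (by simp) (by simp)
  let a : M ⟶ R.cocomplex.X 0 := R.ι.f 0
  have ha : a ≫ R.cocomplex.d 0 1 = 0 := RDer.res_ι_d R.cocomplex R.ι
  have hw : augZ R ≫ R.cochainComplex.d 0 1 = 0 := by
    show (a ≫ (R.cochainComplexXIso 0 0 (by simp)).inv) ≫ _ = 0
    rw [hd, assoc, Iso.inv_hom_id_assoc, reassoc_of% ha, zero_comp]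
  refine ⟨hw, inferInstance, fun q => inferInstance, fun q hq => ?_, ?_, ?_⟩
  · haveI : QuasiIso R.ι' := inferInstance
    rcases lt_or_gt_of_ne hq with h | h
    · exact R.cochainComplex.exactAt_of_isGE 0 q h
    · exact R.cochainComplex.exactAt_of_isLE 0 q h
  · have hm : Mono a := RDer.res_mono R.cocomplex R.ι
    show Mono (a ≫ (R.cochainComplexXIso 0 0 (by simp)).inv)
    infer_instance
  · refine ShortComplex.exact_of_iso ?_ (RDer.res_exact₀ R.cocomplex R.ι)
    refine ShortComplex.isoMk (Iso.refl _) (R.cochainComplexXIso 0 0 (by simp)).symm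
      (R.cochainComplexXIso 1 1 (by simp)).symm ?_ ?_
    · exact id_comp _
    · exact ((congrArg ((R.cochainComplexXIso 0 0 (by simp)).inv ≫ ·) hd).trans
        (Iso.inv_hom_id_assoc _ _))

lemma isInjResolutionVia_of_iso {C C' : CochainComplex A ℤ} {M : A} {a : M ⟶ C.X 0}
    {a' : M ⟶ C'.X 0} (h : _root_.CE.IsInjResolutionVia C M a) (e : C ≅ C')
    (ha : a ≫ e.hom.f 0 = a') : _root_.CE.IsInjResolutionVia C' M a' := by
  obtain ⟨w, hge, hinj, hex, hm, hex0⟩ := h
  have e0 : IsIso (e.hom.f 0) := inferInstance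
  have w' : a' ≫ C'.d 0 1 = 0 := by rw [← ha, assoc, e.hom.comm, reassoc_of% w, zero_comp]
  refine ⟨w', ?_, fun q => Injective.of_iso (HomologicalComplex.Hom.isoApp e q) (hinj q),
    fun q hq => (hex q hq).of_iso e, by rw [← ha]; infer_instance, ?_⟩
  · haveI := hge
    exact CochainComplex.isStrictlyGE_of_iso e 0
  · exact ShortComplex.exact_of_iso (S₁ := ShortComplex.mk a (C.d 0 1) w)
      (ShortComplex.isoMk (Iso.refl _)
        (HomologicalComplex.Hom.isoApp e 0) (HomologicalComplex.Hom.isoApp e 1)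
        ((id_comp _).trans ha.symm) (e.hom.comm 0 1)) hex0

lemma shortExact_ext {S : ShortComplex (CochainComplex A ℕ)} (hS : S.ShortExact) :
    (S.map (ComplexShape.embeddingUpNat.extendFunctor A)).ShortExact := by
  refine HomologicalComplex.shortExact_of_degreewise_shortExact _ fun q => ?_
  by_cases hq : 0 ≤ q
  · obtain ⟨k, rfl⟩ := Int.eq_ofNat_of_zero_le hq
    refine ShortComplex.shortExact_of_iso ?_ (hS.map_of_exact (HomologicalComplex.eval A _ k))
    exact ShortComplex.isoMk (S.X₁.extendXIso ComplexShape.embeddingUpNat rfl).symm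
      (S.X₂.extendXIso ComplexShape.embeddingUpNat rfl).symm
      (S.X₃.extendXIso ComplexShape.embeddingUpNat rfl).symm
      (by
        show _ ≫ (HomologicalComplex.extendMap S.f _).f (k : ℤ) = S.f.f k ≫ _
        refine (congrArg (_ ≫ ·) (HomologicalComplex.extendMap_f S.f
          ComplexShape.embeddingUpNat (i := k) rfl)).trans ?_
        exact Iso.inv_hom_id_assoc _ _)
      (by
        show _ ≫ (HomologicalComplex.extendMap S.g _).f (k : ℤ) = S.g.f k ≫ _
        refine (congrArg (_ ≫ ·) (HomologicalComplex.extendMap_f S.g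
          ComplexShape.embeddingUpNat (i := k) rfl)).trans ?_
        exact Iso.inv_hom_id_assoc _ _)
  · have hz : ∀ K : CochainComplex A ℕ,
        IsZero ((K.extend ComplexShape.embeddingUpNat).X q) := fun K =>
      K.isZero_extend_X _ q fun i hi => hq (by rw [← hi]; exact Int.natCast_nonneg i)
    exact { exact := ShortComplex.exact_of_isZero_X₂ _ (hz _)
            mono_f := ⟨fun _ _ _ => (hz _).eq_of_tgt _ _⟩
            epi_g := ⟨fun _ _ _ => (hz _).eq_of_src _ _⟩ }

/-- Resolutions of a short exact sequence with prescribed ends, as complexes indexed by `ℤ`. -/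
lemma exists_res {S : ShortComplex A} (hS : S.ShortExact) (R₁ : InjectiveResolution S.X₁)
    (R₃ : InjectiveResolution S.X₃) :
    ∃ (R₂ : InjectiveResolution S.X₂) (f : R₁.cochainComplex ⟶ R₂.cochainComplex)
      (g : R₂.cochainComplex ⟶ R₃.cochainComplex) (w : f ≫ g = 0),
      augZ R₁ ≫ f.f 0 = S.f ≫ augZ R₂ ∧ augZ R₂ ≫ g.f 0 = S.g ≫ augZ R₃ ∧
      (ShortComplex.mk f g w).ShortExact := by
  obtain ⟨R₂, f, g, w, hf, hg, hse, -⟩ := exists_mid hS R₁ R₃
  exact ⟨R₂, ext f, ext g, (HomologicalComplex.extendMap_comp f g _).symm.trans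
    ((congrArg (HomologicalComplex.extendMap · _) w).trans (HomologicalComplex.extendMap_zero _ _ _)),
    augZ_ext _ _ _ _ hf, augZ_ext _ _ _ _ hg, shortExact_ext hse⟩

/-- A resolution which vanishes for zero objects. -/
lemma exists_zero_res [EnoughInjectives A] (M : A) :
    ∃ R : InjectiveResolution M, IsZero M → ∀ q, IsZero (R.cochainComplex.X q) := by
  by_cases hM : IsZero M
  · obtain ⟨Z, hZ⟩ := HasZeroObject.zero (C := A)
    let C₀ : CochainComplex A ℕ :=
      { X := fun _ => Z, d := fun _ _ => 0, shape := fun _ _ _ => rfl }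
    let R : InjectiveResolution M :=
      { cocomplex := C₀
        injective := fun _ => hZ.injective
        ι := 0
        quasiIso := ⟨fun n => (quasiIsoAt_iff_exactAt _ n
          (ShortComplex.exact_of_isZero_X₂ _ (by
            rcases n with _ | n
            · exact IsZero.of_iso hM
                (show ((CochainComplex.single₀ A).obj M).X 0 ≅ M from
                  HomologicalComplex.singleObjXSelf (ComplexShape.up ℕ) 0 M)
            · exact HomologicalComplex.isZero_single_obj_X (ComplexShape.up ℕ) 0 M (n + 1)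
                n.succ_ne_zero))).2
          (ShortComplex.exact_of_isZero_X₂ _ hZ)⟩ }
    refine ⟨R, fun _ q => ?_⟩
    by_cases hq : 0 ≤ q
    · obtain ⟨k, rfl⟩ := Int.eq_ofNat_of_zero_le hq
      exact hZ.of_iso (R.cochainComplexXIso _ k rfl)
    · exact R.cochainComplex.isZero_of_isStrictlyGE 0 q (by omega)
  · exact ⟨injectiveResolution M, fun h => absurd h hM⟩

variable {M : CochainComplex A ℤ}

lemma isIso_liftCycles {p : ℤ} {Z T T' : A} (j : Z ⟶ M.X p) (g : M.X p ⟶ T) (m : T ⟶ T')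
    (e : M.X (p + 1) = T') (hd : M.d p (p + 1) ≫ eqToHom e = g ≫ m) [Mono m] [Mono j] (w : j ≫ g = 0)
    (hex : (ShortComplex.mk j g w).Exact) (hj : j ≫ M.d p (p + 1) = 0) :
    IsIso (M.liftCycles j (p + 1) (by simp) hj) := by
  let u := M.liftCycles j (p + 1) (by simp) hj
  have hu : u ≫ M.iCycles p = j := M.liftCycles_i _ _ _ _
  have hc : M.iCycles p ≫ g = 0 := by
    rw [← cancel_mono m, assoc, ← hd, M.iCycles_d_assoc, zero_comp, zero_comp]
  haveI : Mono (ShortComplex.mk j g w).f := inferInstanceAs (Mono j)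
  refine ⟨hex.lift (M.iCycles p) hc, ?_, ?_⟩
  · rw [← cancel_mono j, assoc, hex.lift_f, id_comp]
    exact hu
  · rw [← cancel_mono (M.iCycles p), assoc, hu, id_comp]
    exact hex.lift_f _ hc

lemma exists_iso_homology {p : ℤ} {Z B H : A} (j : Z ⟶ M.X (p + 1))
    (hj : j ≫ M.d (p + 1) (p + 1 + 1) = 0)
    (hu : IsIso (M.liftCycles j (p + 1 + 1) (by simp) hj))
    (g₀ : M.X p ⟶ B) [Epi g₀] (f : B ⟶ Z) (ga : Z ⟶ H) [Epi ga] (hd : g₀ ≫ f ≫ j = M.d p (p + 1))
    (w : f ≫ ga = 0) (hex : (ShortComplex.mk f ga w).Exact) :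
    ∃ v : H ≅ M.homology (p + 1),
      ga ≫ v.hom = M.liftCycles j (p + 1 + 1) (by simp) hj ≫ M.homologyπ (p + 1) := by
  let u := M.liftCycles j (p + 1 + 1) (by simp) hj
  have hui : u ≫ M.iCycles (p + 1) = j := M.liftCycles_i _ _ _ _
  haveI : IsIso u := hu
  have htc : M.toCycles p (p + 1) = g₀ ≫ f ≫ u := by
    rw [← cancel_mono (M.iCycles (p + 1)), HomologicalComplex.toCycles_i, assoc, assoc, hui, hd]
  have h₀ : f ≫ u ≫ M.homologyπ (p + 1) = 0 := by
    rw [← cancel_epi g₀, comp_zero]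
    simpa only [htc, assoc] using M.toCycles_comp_homologyπ p (p + 1)
  haveI : Epi (ShortComplex.mk f ga w).g := inferInstanceAs (Epi ga)
  have hz : M.toCycles p (p + 1) ≫ inv u ≫ ga = 0 := by
    rw [htc, assoc, assoc, IsIso.hom_inv_id_assoc, w, comp_zero]
  obtain ⟨l, hl⟩ := CokernelCofork.IsColimit.desc'
    (M.homologyIsCokernel p (p + 1) (by simp)) (inv u ≫ ga) hz
  have hl' : M.homologyπ (p + 1) ≫ l = inv u ≫ ga := hl
  have hv : ga ≫ hex.desc (u ≫ M.homologyπ (p + 1)) h₀ = u ≫ M.homologyπ (p + 1) := hex.g_desc _ h₀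
  refine ⟨⟨hex.desc _ h₀, l, ?_, ?_⟩, hv⟩
  · rw [← cancel_epi ga, reassoc_of% hv, hl', IsIso.hom_inv_id_assoc, comp_id]
  · rw [← cancel_epi (M.homologyπ (p + 1)), reassoc_of% hl', hv, IsIso.inv_hom_id_assoc, comp_id]

lemma cyclesColumn (I : CochainComplex (CochainComplex A ℤ) ℤ) {K : CochainComplex A ℤ}
    (ε : K ⟶ I.X 0) (p : ℤ) {Z : CochainComplex A ℤ} (a : K.cycles p ⟶ Z.X 0)
    (h : _root_.CE.IsInjResolutionVia Z (K.cycles p) a)
    (j : ∀ q, Z.X q ⟶ (I.X q).X p) (hj : ∀ q, j q ≫ (I.X q).d p (p + 1) = 0)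
    (hu : ∀ q, IsIso ((I.X q).liftCycles (j q) (p + 1) (by simp) (hj q)))
    (hcomm : ∀ q q', j q ≫ (I.d q q').f p = Z.d q q' ≫ j q')
    (ha : a ≫ j 0 = K.iCycles p ≫ ε.f p) :
    _root_.CE.IsInjResolutionVia
      (((HomologicalComplex.cyclesFunctor A (ComplexShape.up ℤ) p).mapHomologicalComplex
        (ComplexShape.up ℤ)).obj I) (K.cycles p) (HomologicalComplex.cyclesMap ε p) := by
  haveI := hu
  refine isInjResolutionVia_of_iso h (HomologicalComplex.Hom.isoOfComponents
    (fun q => @asIso _ _ _ _ _ (hu q)) (fun q q' _ => ?_)) ?_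
  · show (I.X q).liftCycles (j q) (p + 1) (CochainComplex.next ℤ p) (hj q) ≫
        HomologicalComplex.cyclesMap (I.d q q') p =
      Z.d q q' ≫ (I.X q').liftCycles (j q') (p + 1) (CochainComplex.next ℤ p) (hj q')
    rw [← cancel_mono ((I.X q').iCycles p)]
    simp [hcomm]
  · show a ≫ (I.X 0).liftCycles (j 0) (p + 1) (CochainComplex.next ℤ p) (hj 0) = _
    rw [← cancel_mono ((I.X 0).iCycles p)]
    simp [ha]

lemma homologyColumn (I : CochainComplex (CochainComplex A ℤ) ℤ) {K : CochainComplex A ℤ}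
    (ε : K ⟶ I.X 0) (p : ℤ) {Z H : CochainComplex A ℤ} (b : K.cycles p ⟶ Z.X 0)
    (a : K.homology p ⟶ H.X 0) (h : _root_.CE.IsInjResolutionVia H (K.homology p) a)
    (j : ∀ q, Z.X q ⟶ (I.X q).X p) (hj : ∀ q, j q ≫ (I.X q).d p (p + 1) = 0)
    (hcomm : ∀ q q', j q ≫ (I.d q q').f p = Z.d q q' ≫ j q')
    (hb : b ≫ j 0 = K.iCycles p ≫ ε.f p)
    (ga : Z ⟶ H) [∀ q, Epi (ga.f q)] (hga : b ≫ ga.f 0 = K.homologyπ p ≫ a)
    (hv : ∀ q, ∃ v : H.X q ≅ (I.X q).homology p,
      ga.f q ≫ v.hom = (I.X q).liftCycles (j q) (p + 1) (by simp) (hj q) ≫ (I.X q).homologyπ p) :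
    _root_.CE.IsInjResolutionVia
      (((HomologicalComplex.homologyFunctor A (ComplexShape.up ℤ) p).mapHomologicalComplex
        (ComplexShape.up ℤ)).obj I) (K.homology p) (HomologicalComplex.homologyMap ε p) := by
  choose v hv using hv
  have hl : ∀ q q', (I.X q).liftCycles (j q) (p + 1) (by simp) (hj q) ≫
      HomologicalComplex.cyclesMap (I.d q q') p =
        Z.d q q' ≫ (I.X q').liftCycles (j q') (p + 1) (by simp) (hj q') := fun q q' => by
    rw [← cancel_mono ((I.X q').iCycles p)]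
    simp [hcomm]
  refine isInjResolutionVia_of_iso h (HomologicalComplex.Hom.isoOfComponents v
    (fun q q' _ => ?_)) ?_
  · show (v q).hom ≫ HomologicalComplex.homologyMap (I.d q q') p = H.d q q' ≫ (v q').hom
    rw [← cancel_epi (ga.f q), reassoc_of% (hv q), HomologicalComplex.homologyπ_naturality,
      reassoc_of% (hl q q'), ga.comm_assoc, hv]
  · show a ≫ (v 0).hom = _
    rw [← cancel_epi (K.homologyπ p), ← reassoc_of% hga, hv,
      HomologicalComplex.homologyπ_naturality, ← assoc]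
    congr 1
    rw [← cancel_mono ((I.X 0).iCycles p)]
    simp [hb]

variable (K : CochainComplex A ℤ)

/-- Boundaries in a given degree. -/
abbrev Bd (p : ℤ) : A := kernel (K.homologyπ p)

/-- The surjection onto the boundaries. -/
abbrev β (p : ℤ) : K.X p ⟶ Bd K (p + 1) :=
  kernel.lift (K.homologyπ (p + 1)) (K.toCycles p (p + 1)) (K.toCycles_comp_homologyπ _ _)

lemma β_fac (p : ℤ) :
    β K p ≫ kernel.ι (K.homologyπ (p + 1)) ≫ K.iCycles (p + 1) = K.d p (p + 1) := by
  rw [kernel.lift_ι_assoc, HomologicalComplex.toCycles_i]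

lemma seqA_shortExact (p : ℤ) :
    (ShortComplex.mk (kernel.ι (K.homologyπ p)) (K.homologyπ p)
      (kernel.condition _)).ShortExact where
  exact := ShortComplex.exact_of_f_is_kernel _ (kernelIsKernel _)

lemma iCycles_β (p : ℤ) : K.iCycles p ≫ β K p = 0 := by
  rw [← cancel_mono (kernel.ι (K.homologyπ (p + 1))), assoc, kernel.lift_ι, zero_comp,
    ← cancel_mono (K.iCycles (p + 1)), assoc, HomologicalComplex.toCycles_i,
    HomologicalComplex.iCycles_d, zero_comp]

lemma seqB_shortExact (p : ℤ) :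
    (ShortComplex.mk (K.iCycles p) (β K p) (iCycles_β K p)).ShortExact := by
  haveI : Epi (β K p) :=
    (ShortComplex.exact_of_g_is_cokernel
      (ShortComplex.mk (K.toCycles p (p + 1)) (K.homologyπ (p + 1))
        (K.toCycles_comp_homologyπ _ _))
      (K.homologyIsCokernel p (p + 1) (by simp))).epi_kernelLift
  exact
    { exact := by
        rw [ShortComplex.exact_iff_exact_up_to_refinements]
        intro T x hx
        have hd : (ShortComplex.mk (K.iCycles p) (K.d p (p + 1)) (K.iCycles_d _ _)).Exact :=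
          ShortComplex.exact_of_f_is_kernel _ (K.cyclesIsKernel p (p + 1) (by simp))
        refine hd.exact_up_to_refinements x ?_
        show x ≫ K.d p (p + 1) = 0
        rw [← β_fac, reassoc_of% hx, zero_comp] }

theorem exists_resolution [EnoughInjectives A] (n : ℤ) [K.IsStrictlyGE n] :
    ∃ (I : CochainComplex (CochainComplex A ℤ) ℤ) (ε : K ⟶ I.X 0) (_ : ε ≫ I.d 0 1 = 0),
      (∃ i : ℤ, ∀ p q : ℤ, p < i → IsZero ((I.X q).X p)) ∧
      (∀ p : ℤ, _root_.CE.IsInjResolutionVia
        (((HomologicalComplex.eval A (ComplexShape.up ℤ) p).mapHomologicalComplex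
          (ComplexShape.up ℤ)).obj I) (K.X p) (ε.f p)) ∧
      (∀ p : ℤ, _root_.CE.IsInjResolutionVia
        (((HomologicalComplex.cyclesFunctor A (ComplexShape.up ℤ) p).mapHomologicalComplex
          (ComplexShape.up ℤ)).obj I) (K.cycles p) (HomologicalComplex.cyclesMap ε p)) ∧
      (∀ p : ℤ, _root_.CE.IsInjResolutionVia
        (((HomologicalComplex.homologyFunctor A (ComplexShape.up ℤ) p).mapHomologicalComplex
          (ComplexShape.up ℤ)).obj I) (K.homology p) (HomologicalComplex.homologyMap ε p)) := by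
  choose RB hRB using fun p => exists_zero_res (Bd K p)
  choose RH hRH using fun p => exists_zero_res (K.homology p)
  choose RZ fa ga wa hfa hga ha using fun p => exists_res (seqA_shortExact K p) (RB p) (RH p)
  choose RK fb gb wb hfb hgb hb using fun p => exists_res (seqB_shortExact K p) (RZ p) (RB (p + 1))
  haveI : ∀ p, Mono (fa p) := fun p => (ha p).mono_f
  haveI : ∀ p, Mono (fb p) := fun p => (hb p).mono_f
  let dJ : ∀ p, (RK p).cochainComplex ⟶ (RK (p + 1)).cochainComplex :=
    fun p => gb p ≫ fa (p + 1) ≫ fb (p + 1)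
  let J : HomologicalComplex₂ A (ComplexShape.up ℤ) (ComplexShape.up ℤ) :=
    CochainComplex.of (fun p => (RK p).cochainComplex) dJ fun p => by
      simp only [dJ, assoc]
      rw [reassoc_of% (wb (p + 1)), zero_comp, comp_zero, comp_zero]
  have hJ : ∀ p, J.d p (p + 1) = dJ p := fun p => by simp [J]
  let I := J.flip
  have hI : ∀ p q, (I.X q).d p (p + 1) = (dJ p).f q := fun p q =>
    congrArg (fun z => HomologicalComplex.Hom.f z q) (hJ p)
  have haug : ∀ p, augZ (RK p) ≫ (dJ p).f 0 = K.d p (p + 1) ≫ augZ (RK (p + 1)) := fun p => by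
    simp only [dJ, HomologicalComplex.comp_f]
    rw [reassoc_of% (hgb p), reassoc_of% (hfa (p + 1)), hfb (p + 1), ← β_fac K p]
    simp only [assoc]
  let ε : K ⟶ I.X 0 :=
    { f := fun p => augZ (RK p)
      comm' := fun p p' hp => by
        obtain rfl : p + 1 = p' := hp
        exact (congrArg (augZ (RK p) ≫ ·) (hI p 0)).trans (haug p) }
  have hε : ε ≫ I.d 0 1 = 0 := by
    ext p
    exact (isInjResolutionVia_cochainComplex (RK p)).choose
  have hbd : ∀ (R : ℤ → A) (_ : ∀ p, IsZero (K.X p) → IsZero (R p)) (p : ℤ), p < n → IsZero (R p) :=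
    fun R hR p hp => hR p (K.isZero_of_isStrictlyGE n p hp)
  have hzero : ∀ p q : ℤ, p < n - 1 → IsZero ((RK p).cochainComplex.X q) := by
    intro p q hp
    have hK : ∀ i, i < n → IsZero (K.cycles i) := fun i hi =>
      IsZero.of_mono (K.iCycles i) (K.isZero_of_isStrictlyGE n i hi)
    have hB : ∀ i, i < n → IsZero ((RB i).cochainComplex.X q) := fun i hi =>
      hRB i (IsZero.of_mono (kernel.ι (K.homologyπ i)) (hK i hi)) q
    have hH : IsZero ((RH p).cochainComplex.X q) :=
      hRH p (IsZero.of_epi (K.homologyπ p) (hK p (by omega))) q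
    have h₁ := (ha p).map_of_exact (HomologicalComplex.eval A (ComplexShape.up ℤ) q)
    have hZ : IsZero ((RZ p).cochainComplex.X q) :=
      h₁.exact.isZero_X₂ ((hB p (by omega)).eq_of_src _ _) (hH.eq_of_tgt _ _)
    have h₂ := (hb p).map_of_exact (HomologicalComplex.eval A (ComplexShape.up ℤ) q)
    exact h₂.exact.isZero_X₂ (hZ.eq_of_src _ _) ((hB (p + 1) (by omega)).eq_of_tgt _ _)
  haveI hgbf : ∀ p q, Epi ((gb p).f q) := fun p q =>
    ((hb p).map_of_exact (HomologicalComplex.eval A (ComplexShape.up ℤ) q)).epi_g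
  haveI hgaf : ∀ p q, Epi ((ga p).f q) := fun p q =>
    ((ha p).map_of_exact (HomologicalComplex.eval A (ComplexShape.up ℤ) q)).epi_g
  let j : ∀ p q, (RZ p).cochainComplex.X q ⟶ (I.X q).X p := fun p q => (fb p).f q
  let g : ∀ p q, (I.X q).X p ⟶ (RB (p + 1)).cochainComplex.X q := fun p q => (gb p).f q
  haveI : ∀ p q, Mono (j p q) := fun p q =>
    ((hb p).map_of_exact (HomologicalComplex.eval A (ComplexShape.up ℤ) q)).mono_f
  haveI : ∀ p q, Mono ((fa p).f q) := fun p q =>
    ((ha p).map_of_exact (HomologicalComplex.eval A (ComplexShape.up ℤ) q)).mono_f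
  haveI : ∀ p q, Epi (g p q) := hgbf
  have hd : ∀ p q, g p q ≫ (fa (p + 1)).f q ≫ j (p + 1) q = (I.X q).d p (p + 1) :=
    fun p q => (hI p q).symm
  have hjg : ∀ p q, j p q ≫ g p q = 0 := fun p q =>
    congrArg (fun z => HomologicalComplex.Hom.f z q) (wb p)
  have hj : ∀ p q, j p q ≫ (I.X q).d p (p + 1) = 0 := fun p q => by
    rw [← hd, reassoc_of% (hjg p q), zero_comp]
  have hu : ∀ p q, IsIso ((I.X q).liftCycles (j p q) (p + 1) (by simp) (hj p q)) := fun p q =>
    isIso_liftCycles (j p q) (g p q) ((fa (p + 1)).f q ≫ j (p + 1) q) rfl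
      ((comp_id _).trans (hd p q).symm) (hjg p q)
      ((hb p).map_of_exact (HomologicalComplex.eval A (ComplexShape.up ℤ) q)).exact (hj p q)
  refine ⟨I, ε, hε, ⟨n - 1, fun p q hp => hzero p q hp⟩, fun p => ?_, fun p => ?_, fun p => ?_⟩
  · exact isInjResolutionVia_of_iso (isInjResolutionVia_cochainComplex (RK p))
      (HomologicalComplex.Hom.isoOfComponents (fun q => Iso.refl _)
        (fun q q' _ => (id_comp _).trans (comp_id _).symm)) (comp_id _)
  · exact cyclesColumn I ε p (augZ (RZ p)) (isInjResolutionVia_cochainComplex (RZ p)) (j p) (hj p)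
      (hu p) (fun q q' => (fb p).comm q q') (hfb p)
  · refine homologyColumn I ε p (augZ (RZ p)) (augZ (RH p))
      (isInjResolutionVia_cochainComplex (RH p)) (j p) (hj p) (fun q q' => (fb p).comm q q')
      (hfb p) (ga p) (hga p) (fun q => ?_)
    obtain ⟨p, rfl⟩ : ∃ p', p = p' + 1 := ⟨p - 1, by omega⟩
    exact exists_iso_homology (j (p + 1) q) (hj (p + 1) q) (hu (p + 1) q) (g p q)
      ((fa (p + 1)).f q) ((ga (p + 1)).f q) (hd p q)
      (congrArg (fun z => HomologicalComplex.Hom.f z q) (wa (p + 1)))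
      ((ha (p + 1)).map_of_exact (HomologicalComplex.eval A (ComplexShape.up ℤ) q)).exact

end Groth.Agent.DSites.CE
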